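import Cfsg.Agent.H45.Uni.Q.Curtis

/-!
# Theorem (U), abstract part for `q = p ^ e`: transfer from the finite group to the algebraic group

* `DatQ.eq_zero_of_S` : a function in `L` which is zero on the finite group `S` is zero;
* `DatQ.transfer` : the same for the translates on both sides.
-/

set_option autoImplicit false
set_option linter.unusedSectionVars false

namespace Cfsg.Agent.H45.Uni

open Polynomial Finset

namespace DatQ

variable {p e : ℕ} {ι k G : Type*} [Field k] [Group G] [Infinite k] (D : DatQ p e ι k G) [Fact p.Prime] [CharP k p]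
  {Fq : Type*} [Field Fq] [Fintype Fq] [Algebra Fq k] (hq : Fintype.card Fq = p ^ e)
include hq

/-- **a function in `L` which is zero on the finite group is zero** -/
theorem eq_zero_of_S {S : Subgroup G} {P : Subgroup G} [Finite P] (hP : IsPGroup p P) (hPS : P ≤ S)
    (hx : ∀ i (s : Fq), D.x i (algebraMap Fq k s) ∈ P) {F : G → k} (hF : F ∈ D.L) (h0 : ∀ g ∈ S, F g = 0) : F = 0 := by
  by_contra hne
  obtain ⟨w, hw, hw0, hfix⟩ := exists_fix hP ((RRep (k := k) (G := G)).comp P.subtype) hne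
  have hw1 : w ∈ D.L ∧ ∀ g ∈ S, w g = 0 := by
    refine Submodule.span_induction (p := fun w _ => w ∈ D.L ∧ ∀ g ∈ S, w g = 0) ?_ ?_ ?_ ?_ hw
    · rintro _ ⟨u, rfl⟩
      exact ⟨D.RR_mem _ hF, fun g hg => h0 _ (S.mul_mem hg (hPS u.2))⟩
    · exact ⟨D.L.zero_mem, fun g _ => rfl⟩
    · rintro a b _ _ ⟨h1, h2⟩ ⟨h3, h4⟩
      exact ⟨D.L.add_mem h1 h3, fun g hg => by rw [Pi.add_apply, h2 g hg, h4 g hg, add_zero]⟩
    · rintro a b _ ⟨h1, h2⟩
      exact ⟨D.L.smul_mem a h1, fun g hg => by rw [Pi.smul_apply, h2 g hg, smul_zero]⟩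
  obtain ⟨a, ha⟩ := D.fix_le hq hw1.1 (fun i s g => congrFun (hfix ⟨D.x i (algebraMap Fq k s), hx i s⟩) g)
  have h1 := hw1.2 1 S.one_mem
  rw [ha, Pi.smul_apply, D.c_one, smul_eq_mul, mul_one] at h1
  rw [h1, zero_smul] at ha
  exact hw0 ha

/-- a linear combination of translates on the left -/
theorem eq_zero_of_S_left {S : Subgroup G} {P : Subgroup G} [Finite P] (hP : IsPGroup p P) (hPS : P ≤ S)
    (hx : ∀ i (s : Fq), D.x i (algebraMap Fq k s) ∈ P) (τ : G → G) (hτ : ∀ a b, τ (a * b) = τ b * τ a) (hττ : ∀ a, τ (τ a) = a)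
    (hcτ : ∀ a, D.c (τ a) = D.c a) (hS : ∀ a ∈ S, τ a ∈ S) {α : Type*} (s : Finset α) (β : α → k) (h : α → G)
    (h0 : ∀ g ∈ S, ∑ a ∈ s, β a * D.c (h a * g) = 0) (g : G) : ∑ a ∈ s, β a * D.c (h a * g) = 0 := by
  have e : ∀ g : G, ∑ a ∈ s, β a * D.c (h a * g) = (∑ a ∈ s, β a • RR (τ (h a)) D.c) (τ g) := by
    intro g
    rw [Finset.sum_apply]
    refine Finset.sum_congr rfl fun a _ => ?_
    rw [Pi.smul_apply, smul_eq_mul, RR_apply, ← hτ, hcτ]
  have h1 : (∑ a ∈ s, β a • RR (τ (h a)) D.c) = 0 := by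
    apply D.eq_zero_of_S hq hP hPS hx
    · exact Submodule.sum_mem _ fun a _ => D.L.smul_mem _ (D.RR_mem _ D.c_mem)
    · intro g hg
      rw [← hττ g, ← e]
      exact h0 _ (hS g hg)
  rw [e, h1]
  rfl

/-- **transfer** -/
theorem transfer {S : Subgroup G} {P : Subgroup G} [Finite P] (hP : IsPGroup p P) (hPS : P ≤ S)
    (hx : ∀ i (s : Fq), D.x i (algebraMap Fq k s) ∈ P) (τ : G → G) (hτ : ∀ a b, τ (a * b) = τ b * τ a) (hττ : ∀ a, τ (τ a) = a)
    (hcτ : ∀ a, D.c (τ a) = D.c a) (hS : ∀ a ∈ S, τ a ∈ S) {α : Type*} (s : Finset α) (z : α → G)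
    (h0 : ∀ h ∈ S, ∀ g ∈ S, ∑ a ∈ s, D.c (h * z a * g) = 0) (h g : G) : ∑ a ∈ s, D.c (h * z a * g) = 0 := by
  -- first all `h`, for `g ∈ S`
  have h1 : ∀ h, ∀ g ∈ S, ∑ a ∈ s, D.c (h * z a * g) = 0 := by
    intro h g hg
    have e : ∀ h : G, ∑ a ∈ s, D.c (h * z a * g) = (∑ a ∈ s, RR (z a * g) D.c) h := by
      intro h
      rw [Finset.sum_apply]
      exact Finset.sum_congr rfl fun a _ => by rw [RR_apply, mul_assoc]
    have h2 : (∑ a ∈ s, RR (z a * g) D.c) = 0 := by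
      apply D.eq_zero_of_S hq hP hPS hx
      · exact Submodule.sum_mem _ fun a _ => D.RR_mem _ D.c_mem
      · intro h hh
        rw [← e]
        exact h0 h hh g hg
    rw [e, h2]
    rfl
  have h2 := D.eq_zero_of_S_left hq hP hPS hx τ hτ hττ hcτ hS s (fun _ => 1) (fun a => h * z a)
    (fun g hg => by simpa using h1 h g hg) g
  simpa using h2

end DatQ

end Cfsg.Agent.H45.Uni
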